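import Cfsg.Agent.MQ.S.O82.Loc
import Cfsg.Agent.MQ.S.E62Y.Dat
import Cfsg.Agent.LV.W.C7
import Cfsg.Agent.SporRec.TwoSp6.Main
import Cfsg.Agent.SporRec.TwoSp6.Hom
import Cfsg.Agent.StandardComponent.SpTwoAut
import Cfsg.Agent.Lib.ComponentSolvable
import Cfsg.Agent.S0270
import Cfsg.Agent.MQ.S.E62Y.Pin
import Cfsg.Agent.MQ.S.F42.Cov
import Cfsg.Agent.MQ.S.M35.Loc
import Cfsg.Agent.Lib.ListFast
import Cfsg.Agent.FastGrp
import Cfsg.Agent.Prune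
set_option linter.all false
prune_inst 0x7f00000000000000000000000000000000000000000000000000000000000000000000000000000000000000000000000000000000000000000000000000000000000000000000000000000000000000003fffffffffffffffffffffffffffbeffbdffffffff
open scoped Cfsg.Agent.FastGrp

-- part: MO/S/S62/Main
section
/-!
# MO, the small row of `2.Sp₆(2)` for the prime 3 (helper65; data from `tools/P3/o82`)

The group is embedded into `W(E₈)`, its classes come from the ones of `W(E₇)`.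

* `MO.X.s62_2_3` : the field of `ExcIn`.
-/

set_option autoImplicit false
set_option maxRecDepth 100000

namespace Cfsg.Agent.MO.S.S62

open Cfsg Subgroup Cfsg.Agent.LV.W Cfsg.Agent.OddHalf.D9.EEight Cfsg.Agent.OddHalf.D9.EEight.Id Cfsg.Agent.MO.T
  Cfsg.Agent.MO.L Cfsg.Agent.MO.S.Pc Cfsg.Agent.MO.S.O82 Cfsg.Agent.SporRec.TwoSp6
open Cfsg.Agent.MK.S.Pc (ev ev_nil ev_cons ev_append V mem_V V_le inR inR_mem)
open Cfsg.Agent.ChevalleyStructure.CoxeterGeom (IsCartan)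

/-! ### the embedding -/

def wsB : List ℕ := [
    0x1756453423021345675602345134230213456423021345430213423021321,
    0x1213456743213456023451342302134567645342302134564302134021320,
    0x1134567213456023451342302134567651342302134562302134532134020,
    0x1672345602345134230213456764534230213456451342302134502341310,
    0x1456713456023451342302134567654230213456342302134502134021302,
    0x1534230213456754321345602345134230213456756321345430213402310,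
    0x1743213456023451342302134567543213456023451342302134561345132,
    0x1765432134560234513423021345676543213456023451342302134567654321345602345134230213456023451342302134513423021342302130210]

def LB : List (List (List ℤ)) := [
    [[1, 1, 2, 2, 2, 1, 0, 0], [-1, -2, -2, -4, -3, -2, -1, -1], [-1, -1, -1, -1, -1, -1, 0, 0], [0, 0, -1, -1, -1, -1, -1, 0],
     [0, 1, 1, 2, 2, 2, 1, 0], [1, 1, 2, 2, 1, 1, 1, 1], [0, -1, -1, -1, -1, -1, -1, -1], [1, 2, 2, 3, 3, 2, 2, 1]],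
    [[-1, -1, -2, -3, -2, -2, -1, -1], [0, 1, 1, 2, 2, 2, 2, 1], [0, 0, 0, 0, 0, 0, 0, 1], [0, -1, -1, -2, -2, -1, -1, -1],
     [0, 1, 1, 2, 1, 0, 0, 0], [2, 2, 3, 4, 4, 3, 2, 1], [-2, -3, -3, -5, -4, -3, -2, -1], [0, 0, -1, 0, 0, 0, 0, 0]],
    [[-1, -1, -2, -2, -1, 0, 0, 0], [0, 0, 0, 0, 0, 0, 0, 1], [0, -1, -1, -2, -2, -2, -2, -1], [2, 3, 4, 6, 5, 4, 3, 1],
     [-2, -3, -4, -6, -5, -4, -2, -1], [0, 1, 1, 2, 2, 1, 0, 0], [0, 0, 0, -1, -1, 0, 0, 0], [0, -1, 0, 0, 0, 0, 0, 0]],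
    [[0, 0, 0, 0, -1, -1, -1, 0], [0, 0, 0, 0, 0, -1, -1, -1], [2, 3, 4, 6, 5, 4, 3, 1], [-2, -2, -3, -4, -3, -2, -1, 0],
     [1, 0, 1, 1, 1, 1, 0, 0], [-1, -1, -2, -3, -3, -2, -1, -1], [1, 1, 1, 2, 2, 1, 1, 1], [0, 1, 1, 1, 1, 1, 0, 0]],
    [[1, 1, 2, 3, 3, 2, 2, 1], [2, 2, 3, 4, 3, 3, 2, 1], [-2, -3, -4, -6, -5, -3, -2, -1], [0, 0, 0, 0, 0, -1, -1, -1],
     [0, 1, 1, 1, 1, 1, 1, 1], [0, -1, -1, -1, -1, -1, -1, 0], [0, 1, 1, 2, 2, 2, 1, 0], [0, 0, 0, 0, -1, -1, 0, 0]],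
    [[0, 0, 0, -1, -1, 0, 0, 0], [-2, -2, -3, -4, -4, -3, -2, -1], [0, 1, 1, 2, 2, 1, 0, 0], [1, 0, 1, 1, 1, 1, 1, 1],
     [0, 0, -1, -1, -1, -1, -1, -1], [0, 1, 1, 2, 2, 2, 2, 1], [1, 1, 2, 2, 1, 0, 0, 0], [-2, -3, -4, -6, -4, -3, -2, -1]],
    [[1, 2, 2, 4, 3, 2, 1, 0], [0, 0, 0, 0, 1, 1, 0, 0], [0, -1, -1, -2, -1, -1, 0, 0], [0, 1, 1, 1, 0, 0, 0, 0],
     [0, 0, 0, 1, 1, 1, 1, 1], [0, -1, 0, -1, -1, -1, -1, -1], [-2, -2, -4, -5, -4, -3, -2, -1], [2, 2, 3, 4, 3, 3, 2, 1]],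
    [[-1, 0, 0, 0, 0, 0, 0, 0], [0, -1, 0, 0, 0, 0, 0, 0], [0, 0, -1, 0, 0, 0, 0, 0], [0, 0, 0, -1, 0, 0, 0, 0],
     [0, 0, 0, 0, -1, 0, 0, 0], [0, 0, 0, 0, 0, -1, 0, 0], [0, 0, 0, 0, 0, 0, -1, 0], [0, 0, 0, 0, 0, 0, 0, -1]]]

def LA : List (List (List ℤ)) := LB.take 7

private noncomputable def _root_.Cfsg.Agent.LsF.fde9092_0 : {f // @Cfsg.Agent.LV.W.all2 = f} := ⟨_, by first | (delta Cfsg.Agent.LV.W.all2; rewrite [Cfsg.Agent.LsF.and_eq, Cfsg.Agent.LsF.isEmpty_eq]; (try delta List.casesOn); exact rfl) | exact rfl⟩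
private noncomputable def _root_.Cfsg.Agent.LsF.fde9092_1 : {f // @Cfsg.Agent.LV.W.sumAbs = f} := ⟨_, by first | (delta Cfsg.Agent.LV.W.sumAbs; rewrite [Cfsg.Agent.LsF.natAbs_eq]; exact rfl) | exact rfl⟩
private noncomputable def _root_.Cfsg.Agent.LsF.fde9092_2 : {f // @Cfsg.Agent.MO.S.O82.Q5.mx = f} := ⟨_, by first | (delta Cfsg.Agent.MO.S.O82.Q5.mx; rewrite [Cfsg.Agent.LsF.fde9092_1.2, Cfsg.Agent.LsF.nmax_pat]; exact rfl) | exact rfl⟩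
private noncomputable def _root_.Cfsg.Agent.LsF.fde9092_3 : {f // @Cfsg.Agent.MO.S.O82.Q5.mxL = f} := ⟨_, by first | (delta Cfsg.Agent.MO.S.O82.Q5.mxL; rewrite [Cfsg.Agent.LsF.fde9092_2.2, Cfsg.Agent.LsF.nmax_pat]; exact rfl) | exact rfl⟩
private noncomputable def _root_.Cfsg.Agent.LsF.fde9092_4 : {f // @Cfsg.Agent.MO.S.O82.eqL = f} := ⟨_, by first | (delta Cfsg.Agent.MO.S.O82.eqL; rewrite [Cfsg.Agent.LsF.fde9092_0.2]; exact rfl) | exact rfl⟩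
private noncomputable def _root_.Cfsg.Agent.LsF.fde9092_5 : {f // @Cfsg.Agent.LV.W.pkz = f} := ⟨_, by first | (delta Cfsg.Agent.LV.W.pkz; rewrite [Cfsg.Agent.LsF.iadd_pat, Cfsg.Agent.LsF.imul_pat]; exact rfl) | exact rfl⟩
private noncomputable def _root_.Cfsg.Agent.LsF.fde9092_6 : {f // @Cfsg.Agent.MO.S.O82.Q5.dot = f} := ⟨_, by first | (delta Cfsg.Agent.MO.S.O82.Q5.dot; rewrite [Cfsg.Agent.LsF.iadd_eq, Cfsg.Agent.LsF.imul_eq]; exact rfl) | exact rfl⟩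
private noncomputable def _root_.Cfsg.Agent.LsF.fde9092_7 : {f // @Cfsg.Agent.MO.S.O82.Q5.wp = f} := ⟨_, by first | (delta Cfsg.Agent.MO.S.O82.Q5.wp; rewrite [Cfsg.Agent.LsF.fde9092_5.2, Cfsg.Agent.LsF.fde9092_6.2, Cfsg.Agent.LsF.map_eq]; exact rfl) | exact rfl⟩
private noncomputable def _root_.Cfsg.Agent.LsF.fde9092_8 : {f // @Cfsg.Agent.MO.S.O82.Q5.wOK = f} := ⟨_, by first | (delta Cfsg.Agent.MO.S.O82.Q5.wOK; rewrite [Cfsg.Agent.LsF.fde9092_3.2, Cfsg.Agent.LsF.fde9092_2.2, Cfsg.Agent.LsF.fde9092_4.2, Cfsg.Agent.LsF.fde9092_7.2, Cfsg.Agent.LsF.fde9092_5.2, Cfsg.Agent.LsF.and_eq, Cfsg.Agent.LsF.map_eq, Cfsg.Agent.LsF.length_eq]; exact rfl) | exact rfl⟩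
private noncomputable def _root_.Cfsg.Agent.LsF.fde9092_9 : {f // @Cfsg.Agent.MO.S.O82.ltOK = f} := ⟨_, by first | (delta Cfsg.Agent.MO.S.O82.ltOK; rewrite [Cfsg.Agent.LsF.fde9092_0.2, Cfsg.Agent.LsF.fde9092_8.2]; exact rfl) | exact rfl⟩
theorem ltB : Lt (ρW.comp (MonoidHom.id W)) (lts a8 wsB) LB := lt8.lts (by ((try (rewrite [Cfsg.Agent.LsF.fde9092_9.2])); decide +kernel))

seal _root_.Cfsg.Agent.OddHalf.D9.EEight.reflFun _root_.Function.Involutive.toPerm _root_.LinearEquiv.ofInvolutive _root_.Cfsg.Agent.OddHalf.D9.EEight.ofLin _root_.Cfsg.Agent.OddHalf.D9.EEight.refl _root_.Cfsg.Agent.OddHalf.D9.EEight.reflEquiv _root_.Cfsg.Agent.MO.S.O82.a8 _root_.Cfsg.Agent.OddHalf.D9.EEight.Id.Gen.s _root_.Cfsg.Agent.MO.S.O82.wrd _root_.Cfsg.Agent.MO.S.O82.lts in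
theorem pre : Hom.Pre neg fun i : Fin 7 => lts a8 wsB i := by
  have he := eqv_sound (α := MonoidHom.id W) (fun _ _ h => h) ltB
  have h7 : lts a8 wsB 7 = neg := ρW_inj ((ltB 7).2.trans (by rw [ρW_neg]; decide +kernel))
  refine ⟨Onto.neg_mul_neg, fun i => ?_, fun i j h => ?_, fun i j h => ?_, ?_⟩
  · simpa only [ev_cons, ev_nil, mul_one, h7] using he [i, i] [7] (by revert i; decide +kernel)
  · simpa only [ev_cons, ev_nil, mul_one, h7] using he [i, j] [7, j, i] (by revert i j; decide +kernel)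
  · simpa only [ev_cons, ev_nil, mul_one, mul_assoc] using he [i, j, i] [j, i, j] (by revert i j; decide +kernel)
  · have l : ∀ i : Fin 7, _ := fun i => ltB i
    have e := (((((((l 0).mul (l 1)).mul (l 2)).mul (l 3)).mul (l 4)).mul (l 5)).mul (l 6)).pow 9
    delta Cox.prod7
    exact (e.eq_one (fun _ _ h => ρW_inj h) (by decide +kernel) :)

def em7 (a : ℕ) : Fin 7 := ⟨a % 7, Nat.mod_lt _ (by decide)⟩

theorem cartan7 : IsCartan CoxeterMatrix.E₇ fun i j => CartanMatrix.E₇ i j :=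
  ⟨by decide, fun i j h => Or.imp_right Or.inl (by revert h; fin_cases i <;> fin_cases j <;> decide)⟩

variable {X : Type} [Group X] {z : X} {a : Fin 7 → X}

/-- the letters -/
def a7 (a : Fin 7 → X) (d : ℕ) : X := if d < 7 then a (em7 d) else 1

theorem lt7 {α : X →* W} (h : ∀ i, α (a i) = lts a8 wsB i) : Lt (ρW.comp α) (a7 a) LA := fun d => by
  rw [a7]
  split_ifs with hd
  · rw [(by decide +kernel : ∀ d < 7, nth oneL LA d = nth oneL LB d) d hd]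
    exact ⟨(ltB d).1, (congrArg ρW ((h _).trans (congrArg _ (Nat.mod_eq_of_lt hd)))).trans (ltB d).2⟩
  · rw [nth_ge (l := LA) _ (not_lt.1 hd)]
    exact Rep.one

/-- **the classes** -/
theorem cl7 [Fintype X] (R : Lift.Rels z a) (hz : z ∈ center X) :
    Cl (center X) 60 (fun k => wrd (a7 a) 256 (E7.e k)) (nth 0 E7.nW) 2903040 := by
  have : Finite CoxeterMatrix.E₇.Group := Nat.finite_of_card_ne_zero (by rw [Cox.card_W]; decide)
  have := Fintype.ofFinite CoxeterMatrix.E₇.Group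
  let π := QuotientGroup.mk' (center X)
  have h1 : π z = 1 := (QuotientGroup.eq_one_iff z).2 hz
  have h2 := Cox.liftable_of (fun i => π (a i)) (fun i => by rw [← map_mul, R.sq, h1])
    (fun i j h => by rw [← map_mul, R.comm i j h, map_mul, h1, one_mul, map_mul])
    fun i j h => by simp only [← map_mul, R.braid i j h]
  have h := cl_of_node (cs := CoxeterMatrix.E₇.toCoxeterSystem) (h := cartan7) (em := em7)
    (Fit.top (by decide +kernel) (fun i => ⟨i, i.2, Fin.ext (Nat.mod_eq_of_lt i.2)⟩) fun a ha =>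
      congrArg (fun b => CoxeterMatrix.E₇.toCoxeterSystem.simple (em7 b))
        ((by decide +kernel : ∀ a < 7, a = E7.toTy.σ a) a ha)) E7_good
    π (QuotientGroup.mk'_surjective _) (CoxeterMatrix.E₇.toCoxeterSystem.lift ⟨_, h2⟩) (fun t => by
      obtain ⟨x, rfl⟩ := QuotientGroup.mk'_surjective _ t
      exact (closure_le ((CoxeterMatrix.E₇.toCoxeterSystem.lift ⟨_, h2⟩).range.comap π)).2 (by
        rintro _ ⟨i, rfl⟩
        exact ⟨_, CoxeterSystem.lift_apply_simple _ h2 i⟩) (R.gen.ge (mem_top x))) (a7 a) fun d => by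
      rw [a7, sl, apply_ite (CoxeterMatrix.E₇.toCoxeterSystem.lift ⟨_, h2⟩), map_one, CoxeterSystem.lift_apply_simple,
        apply_ite π, map_one]
      rfl
  rwa [QuotientGroup.ker_mk', show E7.ν 0 = 2903040 by decide +kernel] at h

/-! ### the table -/

def ms7 : List (List ℕ) := [
    [1], [3], [2, 1], [1, 1, 1], [4, 1], [3, 2], [3, 1, 1], [2, 2, 1], [4, 3], [4, 2, 1], [3, 2, 2], [3, 2, 1, 1]]

def C7 : List (List ℤ) := [
    [1, -1, 0, -1, 4, 1, -3, 1, 0, 2, 0, -29], [0, 1, -2, 1, -3, -2, 4, -7, 4, -2, -2, 75],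
    [0, 0, 1, -2, -2, 1, -3, 2, -3, 3, 3, -53], [0, 0, 0, 1, -3, -1, 3, -1, 1, -2, -1, 31],
    [0, 0, 0, 0, -4, 1, -2, 3, -2, 1, 2, -39], [0, 0, 0, 0, 3, 0, 0, 5, 1, -2, -2, -2],
    [0, 0, 0, 0, 10, 0, -1, 0, 0, 1, -1, -9], [0, 0, 0, 0, -4, 0, 0, -2, 0, 0, 1, 9],
    [0, 0, 0, 0, 2, 0, 1, -3, 0, 0, 0, 23], [0, 0, 0, 0, -4, 0, 0, 1, 0, 0, 0, -7],
    [0, 0, 0, 0, 1, 0, 0, 0, 0, 0, 0, -2], [0, 0, 0, 0, 0, 0, 0, 0, 0, 0, 0, 1]]

noncomputable def T7 : List (List ℤ) := (List.map (unz 4) [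
    0x4026d05c60b8017c054615509f08e08e08c0f05, 0x0, 0x3d027681beb4360c1ce0b8584, 0x0, 0x0, 0x0, 0x0, 0x0,
    0x10c0328610c32ca1c3, 0x0, 0xc17d002139c27a7a7a73, 0x0, 0x0, 0x0, 0xe610f9e508189099043, 0x0, 0x0, 0x0, 0x0, 0x0,
    0x0, 0x0, 0x0, 0x0, 0x0, 0x0, 0x0, 0x0, 0x0, 0x0, 0x0, 0x400021e5900043, 0x0, 0x438844001100462,
    0x628804628c38c62, 0xc8228a31008c422, 0x1c74c029d3c618f1e3, 0x0, 0x0, 0x0, 0x0, 0x43008a21108b2871, 0x0, 0x0,
    0x0, 0x0, 0x40d25e4f4fac71d3e7494e2, 0x0, 0x2184631440114411, 0x194411000880451, 0xc62008a31651451,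
    0x64011882208c3ca2, 0x64010f20c821c3cb2, 0x400032870c0032, 0x40d25e4f4fac71d3e7494e2, 0xe610f9e508189099043,
    0x1c74c029d3c618f1e3, 0x3d027681beb4360c1ce0b8584, 0x7d20a01ce139c160b0584,
    0xff8b3f717efffadfea2faa7cf7c6fc6fc5f7f4])

def m7L : List ℕ := [1, 1, 1, 1, 1, 1, 1, 1, 1, 1, 1, 2]

def b7 : List ℤ := [8, 48, 112, 112, 120, 168, 280, 448, 512, 560, 720, 64]

theorem gram7 : gramOK 60 12 T7 E7.nW 2903040 m7L b7 2903040 = true := by decide +kernel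

private noncomputable def _root_.Cfsg.Agent.LsF.fde9092_15 : {f // @Cfsg.Agent.LV.W.allLt = f} := ⟨_, by first | (delta Cfsg.Agent.LV.W.allLt; rewrite [Cfsg.Agent.LsF.and_eq]; exact rfl) | exact rfl⟩
private noncomputable def _root_.Cfsg.Agent.LsF.fde9092_16 : {f // @Int.subNatNat = f} := ⟨_, by first | (delta Int.subNatNat; rewrite [Cfsg.Agent.LsF.nsub_pat]; (try delta Int.negOfNat.match_1); (try delta Nat.casesOn); exact rfl) | exact rfl⟩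
private noncomputable def _root_.Cfsg.Agent.LsF.fde9092_17 : {f // @Cfsg.Agent.MO.S.O82.Q5.unq = f} := ⟨_, by first | (delta Cfsg.Agent.MO.S.O82.Q5.unq; rewrite [Cfsg.Agent.LsF.fde9092_16.2, Cfsg.Agent.LsF.iadd_eq, Cfsg.Agent.LsF.toNat_eq]; exact rfl) | exact rfl⟩
private noncomputable def _root_.Cfsg.Agent.LsF.fde9092_11 : {f // @Cfsg.Agent.MO.S.O82.axp = f} := ⟨_, by first | (delta Cfsg.Agent.MO.S.O82.axp; rewrite [Cfsg.Agent.LsF.iadd_eq, Cfsg.Agent.LsF.imul_eq]; exact rfl) | exact rfl⟩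
private noncomputable def _root_.Cfsg.Agent.LsF.fde9092_12 : {f // @Cfsg.Agent.MO.S.O82.comb = f} := ⟨_, by first | (delta Cfsg.Agent.MO.S.O82.comb; rewrite [Cfsg.Agent.LsF.fde9092_11.2]; exact rfl) | exact rfl⟩
private noncomputable def _root_.Cfsg.Agent.LsF.fde9092_13 : {f // @Cfsg.Agent.MO.S.O82.mulL = f} := ⟨_, by first | (delta Cfsg.Agent.MO.S.O82.mulL; rewrite [Cfsg.Agent.LsF.fde9092_12.2]; exact rfl) | exact rfl⟩
private noncomputable def _root_.Cfsg.Agent.LsF.fde9092_18 : {f // @Cfsg.Agent.LV.W.sumLt = f} := ⟨_, by first | (delta Cfsg.Agent.LV.W.sumLt; rewrite [Cfsg.Agent.LsF.iadd_pat]; exact rfl) | exact rfl⟩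
private noncomputable def _root_.Cfsg.Agent.LsF.fde9092_19 : {f // @Cfsg.Agent.MO.S.O82.trL = f} := ⟨_, by first | (delta Cfsg.Agent.MO.S.O82.trL; rewrite [Cfsg.Agent.LsF.fde9092_18.2]; exact rfl) | exact rfl⟩
private noncomputable def _root_.Cfsg.Agent.LsF.fde9092_20 : {f // @Cfsg.Agent.MO.S.O82.sg = f} := ⟨_, by first | (delta Cfsg.Agent.MO.S.O82.sg; rewrite [Cfsg.Agent.LsF.imul_eq]; exact rfl) | exact rfl⟩
private noncomputable def _root_.Cfsg.Agent.LsF.fde9092_21 : {f // @Cfsg.Agent.MO.S.O82.moZ = f} := ⟨_, by first | (delta Cfsg.Agent.MO.S.O82.moZ; rewrite [Cfsg.Agent.LsF.imul_eq]; exact rfl) | exact rfl⟩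
private noncomputable def _root_.Cfsg.Agent.LsF.fde9092_22 : {f // @Cfsg.Agent.MO.S.O82.mosZ = f} := ⟨_, by first | (delta Cfsg.Agent.MO.S.O82.mosZ; rewrite [Cfsg.Agent.LsF.fde9092_21.2]; exact rfl) | exact rfl⟩
private noncomputable def _root_.Cfsg.Agent.LsF.fde9092_23 : {f // @Cfsg.Agent.MO.S.O82.Q5.cOK = f} := ⟨_, by first | (delta Cfsg.Agent.MO.S.O82.Q5.cOK; rewrite [Cfsg.Agent.LsF.fde9092_1.2, Cfsg.Agent.LsF.fde9092_2.2, Cfsg.Agent.LsF.fde9092_6.2, Cfsg.Agent.LsF.fde9092_5.2, Cfsg.Agent.LsF.and_eq, Cfsg.Agent.LsF.map_eq]; exact rfl) | exact rfl⟩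
private noncomputable def _root_.Cfsg.Agent.LsF.fde9092_24 : {f // @Cfsg.Agent.MO.S.O82.colOK = f} := ⟨_, by first | (delta Cfsg.Agent.MO.S.O82.colOK; rewrite [Cfsg.Agent.LsF.fde9092_17.2, Cfsg.Agent.LsF.fde9092_7.2, Cfsg.Agent.LsF.fde9092_8.2, Cfsg.Agent.LsF.fde9092_13.2, Cfsg.Agent.LsF.fde9092_19.2, Cfsg.Agent.LsF.fde9092_20.2, Cfsg.Agent.LsF.fde9092_22.2, Cfsg.Agent.LsF.fde9092_23.2, Cfsg.Agent.LsF.iadd_pat, Cfsg.Agent.LsF.imul_pat, Cfsg.Agent.LsF.isub_pat, Cfsg.Agent.LsF.and_eq, Cfsg.Agent.LsF.map_eq]; exact rfl) | exact rfl⟩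
private noncomputable def _root_.Cfsg.Agent.LsF.fde9092_25 : {f // @Cfsg.Agent.MO.S.O82.colsOK = f} := ⟨_, by first | (delta Cfsg.Agent.MO.S.O82.colsOK; rewrite [Cfsg.Agent.LsF.fde9092_15.2, Cfsg.Agent.LsF.fde9092_24.2, Cfsg.Agent.LsF.nadd_pat]; exact rfl) | exact rfl⟩
private noncomputable def _root_.Cfsg.Agent.LsF.fde9092_26 : {f // @Cfsg.Agent.MO.S.S62.LA = f} := ⟨_, by first | (delta Cfsg.Agent.MO.S.S62.LA; rewrite [Cfsg.Agent.LsF.take_eq]; exact rfl) | exact rfl⟩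
private noncomputable def _root_.Cfsg.Agent.LsF.fde9092_27 : {f // @Cfsg.Agent.LV.W.dz = f} := ⟨_, by first | (delta Cfsg.Agent.LV.W.dz; rewrite [Cfsg.Agent.LsF.cond_eq]; exact rfl) | exact rfl⟩
private noncomputable def _root_.Cfsg.Agent.LsF.fde9092_29 : {f // @Cfsg.Agent.LV.W.unz = f} := ⟨_, by first | (delta Cfsg.Agent.LV.W.unz; rewrite [Cfsg.Agent.LsF.fde9092_27.2, Cfsg.Agent.LsF.map_eq]; exact rfl) | exact rfl⟩
private noncomputable def _root_.Cfsg.Agent.LsF.fde9092_30 : {f // @Cfsg.Agent.LV.W.E7 = f} := ⟨_, by first | (delta Cfsg.Agent.LV.W.E7; rewrite [Cfsg.Agent.LsF.fde9092_29.2, Cfsg.Agent.LsF.ineg_pat, Cfsg.Agent.LsF.map_eq]; exact rfl) | exact rfl⟩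
private noncomputable def _root_.Cfsg.Agent.LsF.fde9092_31 : {f // @Cfsg.Agent.MO.S.S62.T7 = f} := ⟨_, by first | (delta Cfsg.Agent.MO.S.S62.T7; rewrite [Cfsg.Agent.LsF.fde9092_29.2, Cfsg.Agent.LsF.map_eq]; exact rfl) | exact rfl⟩
theorem up7 : Up LA [] ms7 C7 E7.e T7 60 :=
  Up.step (k := 30) (m := 30) (Up.step (k := 0) (m := 30) (Up.zero _) (by ((try (rewrite [Cfsg.Agent.LsF.fde9092_25.2, Cfsg.Agent.LsF.fde9092_26.2, Cfsg.Agent.LsF.fde9092_30.2, Cfsg.Agent.LsF.fde9092_31.2])); decide +kernel))) (by ((try (rewrite [Cfsg.Agent.LsF.fde9092_25.2, Cfsg.Agent.LsF.fde9092_26.2, Cfsg.Agent.LsF.fde9092_30.2, Cfsg.Agent.LsF.fde9092_31.2])); decide +kernel))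

/-! ### the local data -/

def ws7 : List ℕ := [
    0x14321345021341300, 0x15400, 0x14520, 0x1534230213454302134023210, 0x140210, 0x12345134230213453423021342302132,
    0x100, 0x134321321, 0x13213421300, 0x154230213456502310, 0x1203204312345431203243154, 0x1203431654312032431543]

def L7 : List (List (List ℤ)) := [
    [[1, 0, 1, 1, 1, 1, 1, 1], [0, 0, 0, 0, 1, 1, 1, 0], [0, 0, 0, 0, 0, -1, -1, -1], [0, 0, 0, 0, -1, 0, 0, 0],
     [-1, -1, -2, -3, -2, -2, -1, 0], [0, 0, 0, 1, 1, 1, 0, 0], [1, 2, 3, 4, 3, 2, 2, 1], [1, 1, 1, 1, 1, 1, 0, 0]],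
    [[-1, -1, -1, -1, -1, 0, 0, 0], [0, -1, -1, -1, -1, -1, -1, -1], [0, 0, -1, -1, -1, -1, -1, 0], [-1, -1, -1, -2, -1, -1, 0, 0],
     [2, 2, 3, 4, 3, 3, 2, 1], [0, 1, 1, 2, 1, 0, 0, 0], [-1, -2, -2, -4, -3, -2, -2, -1], [0, 1, 0, 1, 1, 1, 1, 0]],
    [[0, -1, -1, -1, 0, 0, 0, 0], [-1, -1, -2, -2, -2, -2, -2, -1], [-1, -2, -2, -4, -4, -3, -2, -1], [0, 1, 1, 2, 2, 2, 2, 1],
     [1, 1, 1, 1, 1, 0, 0, 0], [1, 1, 2, 3, 2, 2, 1, 1], [0, 0, 0, 0, 0, 0, 0, -1], [-1, -1, -2, -3, -2, -1, -1, 0]],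
    [[-1, -2, -2, -3, -2, -1, -1, 0], [0, -1, -1, -1, -1, -1, 0, 0], [-1, -1, -2, -3, -3, -3, -2, -1], [0, 1, 1, 2, 2, 2, 1, 0],
     [1, 0, 1, 0, 0, 0, 0, 0], [0, 1, 0, 1, 1, 1, 1, 1], [0, 0, 1, 1, 0, 0, 0, 0], [1, 1, 1, 2, 2, 1, 0, 0]],
    [[0, 0, 1, 0, 0, 0, 0, 0], [1, 2, 2, 3, 2, 1, 1, 1], [1, 0, 0, 0, 0, 0, 0, 0], [0, 1, 1, 2, 2, 2, 1, 0],
     [-2, -3, -4, -6, -5, -4, -3, -1], [1, 1, 2, 3, 2, 1, 1, 0], [0, 0, 0, 0, 0, 1, 1, 1], [-1, -1, -2, -3, -2, -2, -1, -1]],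
    [[1, 1, 2, 3, 2, 2, 1, 1], [0, 1, 1, 2, 2, 1, 0, 0], [0, 0, 0, 0, 0, 0, 0, -1], [0, -1, -1, -2, -2, -2, -1, 0],
     [-1, 0, -1, -1, -1, 0, 0, 0], [2, 2, 3, 4, 4, 3, 2, 1], [-2, -3, -3, -5, -4, -3, -2, -1], [0, 0, -1, 0, 0, 0, 0, 0]],
    [[-1, 0, 0, 0, 0, 0, 0, 0], [0, -1, 0, 0, 0, 0, 0, 0], [0, 0, -1, 0, 0, 0, 0, 0], [0, 0, 0, -1, 0, 0, 0, 0],
     [0, 0, 0, 0, -1, 0, 0, 0], [0, 0, 0, 0, 0, -1, 0, 0], [0, 0, 0, 0, 0, 0, -1, 0], [0, 0, 0, 0, 0, 0, 0, -1]],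
    [[-1, -1, -1, -1, -1, 0, 0, 0], [0, -1, -1, -1, -1, -1, 0, 0], [0, 0, -1, -1, 0, 0, 0, 0], [0, 0, 1, 0, 0, 0, 0, 0],
     [1, 1, 1, 2, 1, 1, 0, 0], [-1, 0, -1, -1, -1, -1, 0, 0], [-1, -2, -2, -3, -2, -2, -2, -1], [2, 3, 4, 6, 5, 4, 3, 1]],
    [[0, 1, 1, 1, 1, 0, 0, 0], [0, 0, 1, 1, 1, 1, 0, 0], [0, 0, 0, 1, 0, 0, 0, 0], [0, 0, -1, -1, 0, 0, 0, 0],
     [-1, -1, -1, -2, -2, -1, 0, 0], [1, 0, 1, 1, 1, 0, 0, 0], [1, 2, 2, 3, 2, 2, 1, 1], [-2, -3, -4, -6, -5, -4, -3, -2]],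
    [[1, 2, 2, 3, 3, 2, 1, 1], [-2, -2, -4, -5, -4, -3, -2, -1], [0, 0, 0, 1, 1, 1, 1, 0], [0, -1, 0, -1, -1, -1, -1, 0],
     [1, 2, 2, 3, 2, 1, 1, 0], [0, 0, 0, 0, 0, 1, 1, 1], [-1, -1, -1, -2, -1, -1, -1, -1], [1, 0, 0, 0, 0, 0, 0, 0]],
    [[1, 2, 2, 3, 2, 1, 1, 0], [0, 1, 1, 1, 1, 1, 0, 0], [1, 1, 2, 3, 3, 3, 2, 1], [0, -1, -1, -2, -2, -2, -1, 0],
     [-1, 0, -1, 0, 0, 0, 0, 0], [0, -1, 0, -1, -1, -1, -1, -1], [0, 0, -1, -1, 0, 0, 0, 0], [-1, -1, -1, -2, -2, -1, 0, 0]],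
    [[-1, -2, -2, -3, -2, -1, -1, -1], [-2, -2, -3, -4, -4, -3, -2, -1], [1, 2, 2, 3, 2, 1, 0, 0], [1, 0, 1, 1, 1, 1, 1, 1],
     [-1, -1, -2, -3, -2, -2, -1, -1], [0, 1, 1, 2, 2, 2, 1, 1], [1, 1, 2, 2, 1, 1, 1, 0], [0, 0, 0, 1, 1, 0, 0, 0]]]

def ct7 : Cert where
  pw := [[], [], [], []]
  cm := [[[], [2], [3], []], [[], [], [], []], [[], [], [], []], [[], [], [], []]]
  dv := [([], [], []), ([], [], []), ([0], [1], []), ([0], [2], [])]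

def gs7 : List (List ℕ) := [[4], [5], [6]]

def RR7 : List (List (List ℕ)) := [
    [[1, 0, 0, 1], [0, 2], [0, 0, 2], [0, 0, 0, 2]], [[2], [0, 2, 2], [0, 0, 1], [0, 0, 0, 2]],
    [[1], [0, 1], [0, 0, 1], [0, 0, 0, 1]]]

def O7 : List (List ℤ) := [
    [1, 1, 1, 2, 2, 1, 1, 0], [-1, -1, -1, -2, -2, -1, -1, 0]]

def σ7 : List (List ℕ) := [
    [1, 0], [1, 0], [1, 0]]

def pe7 : List ℕ := [
    1, 2, 3, 0, 0, 3, 0, 0, 2, 3, 0, 0, 3]

def pm7 : List ℕ := [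
    1, 2, 0, 0, 2]

theorem ok7 : ltOK LA ws7 L7 = true := by ((try (rewrite [Cfsg.Agent.LsF.fde9092_9.2, Cfsg.Agent.LsF.fde9092_26.2])); decide +kernel)

theorem pc7 : Pc.chk (eqv L7) 3 4 2 ct7 = true := by decide +kernel

private noncomputable def _root_.Cfsg.Agent.LsF.fde9092_32 : {f // @Cfsg.Agent.MO.S.Pc.pwd = f} := ⟨_, by first | (delta Cfsg.Agent.MO.S.Pc.pwd; rewrite [Cfsg.Agent.LsF.flatMap_eq, Cfsg.Agent.LsF.replicate_eq, Cfsg.Agent.LsF.range_eq, Cfsg.Agent.LsF.getD_eq, Cfsg.Agent.LsF.length_eq]; exact rfl) | exact rfl⟩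
private noncomputable def _root_.Cfsg.Agent.LsF.fde9092_33 : {f // @Cfsg.Agent.MO.S.O82.nfw = f} := ⟨_, by first | (delta Cfsg.Agent.MO.S.O82.nfw; rewrite [Cfsg.Agent.LsF.fde9092_32.2, Cfsg.Agent.LsF.ndiv_pat, Cfsg.Agent.LsF.nmod_pat, Cfsg.Agent.LsF.npow_pat, Cfsg.Agent.LsF.map_eq, Cfsg.Agent.LsF.range_eq]; exact rfl) | exact rfl⟩
private noncomputable def _root_.Cfsg.Agent.LsF.fde9092_34 : {f // @Cfsg.Agent.MO.S.O82.hs = f} := ⟨_, by first | (delta Cfsg.Agent.MO.S.O82.hs; rewrite [Cfsg.Agent.LsF.fde9092_18.2, Cfsg.Agent.LsF.iadd_pat, Cfsg.Agent.LsF.imul_pat, Cfsg.Agent.LsF.toNat_eq]; exact rfl) | exact rfl⟩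
private noncomputable def _root_.Cfsg.Agent.LsF.fde9092_35 : {f // @Cfsg.Agent.MO.S.O82.apw = f} := ⟨_, by first | (delta Cfsg.Agent.MO.S.O82.apw; rewrite [Cfsg.Agent.LsF.fde9092_12.2]; exact rfl) | exact rfl⟩
private noncomputable def _root_.Cfsg.Agent.LsF.fde9092_36 : {f // @Cfsg.Agent.MO.S.O82.hw = f} := ⟨_, by first | (delta Cfsg.Agent.MO.S.O82.hw; rewrite [Cfsg.Agent.LsF.fde9092_34.2, Cfsg.Agent.LsF.fde9092_35.2]; exact rfl) | exact rfl⟩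
private noncomputable def _root_.Cfsg.Agent.LsF.fde9092_37 : {f // @Cfsg.Agent.MO.S.O82.Q5.nd = f} := ⟨_, by first | (delta Cfsg.Agent.MO.S.O82.Q5.nd; rewrite [Cfsg.Agent.LsF.and_eq]; exact rfl) | exact rfl⟩
private noncomputable def _root_.Cfsg.Agent.LsF.fde9092_38 : {f // @Cfsg.Agent.MO.S.O82.lbOK = f} := ⟨_, by first | (delta Cfsg.Agent.MO.S.O82.lbOK; rewrite [Cfsg.Agent.LsF.fde9092_33.2, Cfsg.Agent.LsF.fde9092_36.2, Cfsg.Agent.LsF.fde9092_37.2, Cfsg.Agent.LsF.npow_pat, Cfsg.Agent.LsF.map_eq, Cfsg.Agent.LsF.range_eq]; exact rfl) | exact rfl⟩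
theorem lb7 : lbOK L7 3 4 = true := by ((try (rewrite [Cfsg.Agent.LsF.fde9092_38.2])); decide +kernel)

theorem gen7 : genOK L7 4 gs7 RR7 O7 σ7 = true := by decide +kernel

/-- **the two numbers** -/
theorem counts [Finite X] (hq : IsQuasisimple X) (hc : ∀ g, g ∈ center X ↔ g = 1 ∨ g = z) (R : Lift.Rels z a)
    (hX : Nat.card X = 2903040) : (∀ l, Fl X l → kk 3 ⊤ (center X) l = 9) ∧
      ∃ Q : Sylow 3 X, ∀ l, Fl X l → kk 3 (normalizer ((Q : Subgroup X) : Set X)) (center X) l = 9 := by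
  have := Fintype.ofFinite X
  obtain ⟨α, a1, a2⟩ := Hom.exists_hom' R hX pre
  have hz := (hc z).2 (Or.inr rfl)
  have a3 : z ∉ α.ker := fun h => Onto.neg_ne_one (a2.symm.trans h)
  have hi : Function.Injective α := (injective_iff_map_eq_one α).2 fun x hx =>
    ((hc x).1 ((Lib.ComponentSolvable.quasisimple_normal_cases hq α.normal_ker).resolve_left
      (fun e => a3 (e ▸ mem_top z)) hx)).resolve_right fun e => a3 (e ▸ hx)
  have a4 : ρW.comp α z = -1 := (congrArg ρW a2).trans ρW_neg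
  have hA := lt7 a1
  have hC := cl7 R hz
  refine ⟨fun l hl => ?_, ?_⟩
  · obtain ⟨-, ix, h⟩ := enum (s := 1) (dl := []) hC le_rfl hc R.z_ne a4 rfl hA (fun _ => rfl) (by decide +kernel)
      (by decide) (ms := ms7) (C := C7) (by decide) (by decide +kernel) up7 (hX ▸ gram7) hl
    exact (h.kk 3).trans (by decide +kernel)
  have hL := hA.lts ok7
  have he := eqv_sound hi hL
  have h0 := card_two hc R.z_ne
  obtain ⟨P, hP⟩ := (pc_of_chk he pc7).sylow (hL.nf lb7).1 (o := 35840) hX (by decide)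
  refine ⟨P, fun l hl => ?_⟩
  rw [hP]
  refine kk_pc hi hL (by decide) h0 pc7 (by decide +kernel) lb7 le_normalizer (center_le_normalizer _) le_rfl (k := 4) ?_
    gen7 (fun i => gen_norm hi hL gen7) (prog := pe7) (prog' := pm7) (r' := 9) (by decide +kernel) (by decide +kernel) hl
  have h1 := norm_comm he pc7
  have h2 := norm_low he pc7 (k := 2) (l := 3) (by decide +kernel) h1
  rw [PC.last 3 rfl] at h2
  have h3 := card_le_of_zpowers (order_last (pc_of_chk he pc7) (hL.nf lb7).1) le_rfl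
  have h4 := card_inf_le P (hP ▸ le_normalizer.trans h2) (a := ev (lts (a7 a) ws7) [7]) (mem_normalizer_zpowers (by
    simpa only [ev_cons, ev_nil, mul_one] using he [7, 3] [3, 7] (by decide +kernel)))
    fun e => not_norm hi hL (a' := [8]) (x := [2]) (z := [2]) (by decide +kernel) (h1 (hP ▸ e))
  have h6 : lts (a7 a) ws7 6 = z := hi (ρW_inj ((hL 6).2.trans (a4.trans (by decide +kernel)).symm))
  have h5 := hC.cent le_rfl (by decide +kernel) (lts (a7 a) ws7 3) {46, 54} fun k hk => by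
    rcases Finset.mem_insert.1 hk with rfl | hk
    · refine ⟨by decide, z, hz, isConj_iff.2 ⟨1, ?_⟩⟩
      rw [show wrd (a7 a) 256 (E7.e 46) = lts (a7 a) ws7 10 from congrArg (wrd (a7 a) 256) (by decide +kernel), ← h6]
      simpa only [ev_cons, ev_nil, mul_one, one_mul, inv_one] using he [3] [6, 10] (by decide +kernel)
    · obtain rfl := Finset.mem_singleton.1 hk
      refine ⟨by decide, z, hz, isConj_iff.2 ⟨lts (a7 a) ws7 9, mul_inv_eq_iff_eq_mul.2 ?_⟩⟩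
      rw [show wrd (a7 a) 256 (E7.e 54) = lts (a7 a) ws7 11 from congrArg (wrd (a7 a) 256) (by decide +kernel), ← h6]
      simpa only [ev_cons, ev_nil, mul_one, mul_assoc] using he [9, 3] [6, 11, 9] (by decide +kernel)
  rw [h0, show ∑ k ∈ ({46, 54} : Finset ℕ), nth 0 E7.nW k = 4480 by decide +kernel] at h5
  rw [hP, inf_eq_left.2 h2] at h4
  omega

theorem counts_cv {F : Type} [Field F] [Fintype F] (hF : Fintype.card F = 2) [Finite X] {φ : X →* PSp 3 F} (v : Cv 2 φ) :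
    (∀ l, Fl X l → kk 3 ⊤ (center X) l = 9) ∧
      ∃ Q : Sylow 3 X, ∀ l, Fl X l → kk 3 (normalizer ((Q : Subgroup X) : Set X)) (center X) l = 9 := by
  have f := (QuotientGroup.quotientMulEquivOfEq v.ker.symm).trans (QuotientGroup.quotientKerEquivOfSurjective φ v.surj)
  have := S0270.result (F := F) 3 (by decide) (by omega)
  obtain ⟨e⟩ := StandardComponent.SpTwoAut.exists_equiv hF
  obtain ⟨z, -, a, h5, -, -, R, h6⟩ := SporRec.TwoSp6.Main.exists_rels (C := X) ⟨v.card, ⟨f.trans e⟩, fun L hL => by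
    have a1 : L.index = 2 := hL.index_eq_card.trans v.card
    have := normal_of_index_eq_two a1
    have := isCyclic_of_prime_card (α := X ⧸ L) a1
    letI : CommGroup (X ⧸ L) := IsCyclic.commGroup
    have a2 := Abelianization.commutator_subset_ker (QuotientGroup.mk' L)
    rw [v.perf, QuotientGroup.ker_mk', top_le_iff] at a2
    rw [a2, index_top] at a1
    omega⟩
  exact counts ⟨⟨v.perf⟩, f.isSimpleGroup⟩ h5 R h6

end Cfsg.Agent.MO.S.S62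

namespace Cfsg.Agent.MO.X

open Cfsg Cfsg.Agent.MO.S Cfsg.Agent.MO.T

theorem s62_2_3 : ∀ (F : Type) [Field F] [Fintype F], Fintype.card F = 2 → SmC 3 2 (PSp 3 F) := fun _ _ _ hF =>
  smC_of_kk (noOut_of_inn ((StandardComponent.SpTwoAut.exists_equiv hF).elim StandardComponent.SpTwoAut.inner_of_equiv) 2)
    (fun _ _ _ _ v => (S62.counts_cv hF v).1) fun _ _ _ _ v _ => (S62.counts_cv hF v).2

end Cfsg.Agent.MO.X
end

-- part: MO/S/G24L/Main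
section
/-!
# MO, the rows `2.G₂(4)`, `p = 3, 5` : the local numbers (helper93)

* `LD`, `LD.ok`, `LD.bound`, `LD.loc` : the data (`tools/P3/h93/g24.py`), the check, the order of the normaliser, the numbers;
* `Cfsg.Agent.MO.X.g24_2_3`, `Cfsg.Agent.MO.X.g24_2_5` : the rows.
-/

set_option autoImplicit false
set_option maxRecDepth 100000

namespace Cfsg.Agent.MO.S.G24L

open Cfsg Equiv Subgroup Cfsg.Agent.MO.T Cfsg.Agent.MO.L Cfsg.Agent.MO.S.Pc Cfsg.Agent.MO.S.G24 Cfsg.Agent.H137.G24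
open Cfsg.Agent.MK.S.Pc (ev ev_nil ev_cons V V_le mem_V conj_V)
open Cfsg.Agent.MK.T (stab_of_le stab_norm)
open Cfsg.Agent.H123.Cls (evw)
open Cfsg.Agent.DZ3.Spor.Tr (NN run run_eq N1_eq)
open Cfsg.Agent.MO.S.F42 (nf nf_spec card_norm map_V map_ev card_V exists_syl)

theorem sq_eq {a b : X} (h : G24.φ a = G24.φ b) : a * a = b * b := by
  rcases (φ_eq (a⁻¹ * b)).1 (by rw [map_mul, map_inv, h, inv_mul_cancel]) with e | e
  · rw [inv_mul_eq_one.1 e]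
  · rw [inv_mul_eq_iff_eq_mul.1 e, mul_assoc, ← mul_assoc z, ← mem_center_iff.1 z_cen a, mul_assoc a, z_sq, mul_one]

theorem odd_eq {a b : X} (h : G24.φ a = G24.φ b) {m : ℕ} (hm : Odd m) (ha : a ^ m = 1) (hb : b ^ m = 1) : a = b := by
  obtain ⟨j, rfl⟩ := hm
  have e : ∀ c : X, c ^ (2 * j + 1) = 1 → c = (c * c) ^ (j + 1) := fun c hc => by
    rw [← sq, ← pow_mul, mul_add, mul_one, pow_succ, hc, one_mul]
  rw [e a ha, e b hb, sq_eq h]

theorem exists_fl : ∃ l, Fl X l := by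
  classical
  have h0 : (⟨z, z_cen⟩ : center X) ≠ 1 := fun h => z_ne (Subtype.ext_iff.1 h)
  have h1 : ∀ w : center X, w = 1 ∨ w = ⟨z, z_cen⟩ := fun w => (mem_cen.1 w.2).imp Subtype.ext Subtype.ext
  have h : (⟨z, z_cen⟩ * ⟨z, z_cen⟩ : center X) = 1 := Subtype.ext z_sq
  let μ : center X →* ℂˣ := MonoidHom.mk' (fun w => if w = 1 then 1 else -1) fun a b => by
    rcases h1 a with rfl | rfl <;> rcases h1 b with rfl | rfl <;>
      simp only [h, h0, one_mul, mul_one, if_true, if_false, neg_mul_neg]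
  refine ⟨fun x => if h : x ∈ center X then μ ⟨x, h⟩ else 0, μ, (injective_iff_map_eq_one μ).2 fun w hw => ?_,
    fun w => dif_pos w.2⟩
  by_contra e
  exact absurd (congrArg Units.val ((if_neg e).symm.trans hw)) (by norm_num)

/-- all letters are less than `k` -/
def lt (k : ℕ) (w : List ℕ) : Bool := w.all (Nat.blt · k)

theorem lt_spec {k : ℕ} {w : List ℕ} (h : lt k w = true) : ∀ i ∈ w, i < k := fun i hi =>
  Nat.blt_eq.mp (List.all_eq_true.1 h i hi)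

theorem E_A {w : List ℕ} (h : ∀ i ∈ w, i < 7) : E w ∈ A :=
  A.list_prod_mem fun x hx => by
    obtain ⟨i, hi, rfl⟩ := List.mem_map.1 hx
    unfold el
    split_ifs with h1 h2
    exacts [N_le_A (ga_mem _), T_mem_A, absurd (h i hi) (by omega)]

theorem E_rev {w : List ℕ} (h : ∀ i ∈ w, i < 7) : E w.reverse = (E w)⁻¹ := by
  rw [E, E, List.prod_inv_reverse, List.map_reverse, List.map_map]
  refine congrArg (fun l : List (Perm (Fin 416)) => l.reverse.prod) (List.map_congr_left fun i hi => ?_)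
  change el i = (el i)⁻¹
  unfold el
  split_ifs with h1 h2
  exacts [eq_inv_of_mul_eq_one_left (ga_sq _), T_inv.symm, absurd (h i hi) (by omega)]

theorem E_six : E [6] = T := mul_one _

/-- the number of the moved points -/
noncomputable def mv (w : List ℕ) : ℕ := ((List.range 416).map fun i => cond (Nat.beq (evw 9 LL w i) i) 0 1).sum

theorem mv_eq {w : List ℕ} (h : ∀ i ∈ w, i < 31) : (E w).support.card = mv w := by
  rw [Perm.support, Finset.card_filter, mv, ← List.sum_toFinset _ List.nodup_range, List.toFinset_range,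
    ← Fin.sum_univ_eq_sum_range]
  refine Finset.sum_congr rfl fun x _ => ?_
  rw [← E_tab w h]
  by_cases e : E w x = x
  · rw [e, Nat.beq_refl, if_neg (not_not.2 rfl), cond_true]
  · rw [if_pos e, Bool.eq_false_iff.2 fun e' => e (Fin.ext (Nat.eq_of_beq_eq_true e')), cond_false]

theorem run_NN {α : Type} (w : List ℕ) (x : X) (κ : ℕ → α) : _root_.Cfsg.Agent.DZ3.Spor.Tr.run _root_.Cfsg.Agent.MO.S.G24.k0 k1 cs ss w (NN x) κ = κ (NN (Y w * x : X)) := by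
  rw [run_eq st_cs, ← Y_coe, coe_mul]

/-- letters (a polycyclic sequence of `Q`, two generators of the normaliser modulo `Q`), relations, stabilizers, matrices, the
inner correction, the elements of a complement, their permutations, the images of the generators, the matrix of the
automorphism, the generators as products of squares, programs, fixed points of `Q`, cosets in a centraliser -/
structure LD where
  W : List (List ℕ)
  c : Cert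
  lv : List (ℕ × List (List ℕ))
  R : List (List (List ℕ))
  x : List ℕ
  O : List (List ℕ)
  σ : List (List ℕ)
  ws : List (List ℕ)
  M : List (List ℕ)
  sq : List (List (List ℕ × List ℕ))
  pG : List ℕ
  pX : List ℕ
  F : List ℕ
  gs : List (List ℕ)

namespace LD

variable (L : LD)

/-- the word in the generators -/
def fl (v : List ℕ) : List ℕ := v.flatMap fun a => L.W.getD a []

/-- the letters -/
def y (a : ℕ) : X := Y (L.W.getD a [])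

/-- their images -/
noncomputable def g (a : ℕ) : N := G24.φ (L.y a)

/-- the test of equality -/
noncomputable def e (v w : List ℕ) : Bool := eqX (L.fl v) (L.fl w)

/-- the automorphism -/
noncomputable def β : MulAut N := MulAut.conj (G24.φ (Y L.x)) * τ

/-- the automorphism maps `u` to `v` -/
noncomputable def im (u v : List ℕ) : Bool := lt 6 u && lt 6 v && eqW ((L.x ++ [6]) ++ u) (v ++ (L.x ++ [6]))

/-- the quotient of two words moves a fixed point of `Q` to a point which is not fixed -/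
noncomputable def mo (n : ℕ) (a b : List ℕ) : Bool := L.F.any fun x => (List.range n).any fun j =>
  !Nat.beq (evw 9 LL (L.W.getD j [] ++ (a.reverse ++ b)) x) (evw 9 LL (a.reverse ++ b) x)

/-- the check of the group -/
noncomputable def ok1 (p n : ℕ) : Bool :=
  L.W.all (lt 6) && lt 6 L.x && Pc.chk L.e p n 2 L.c && expC n 2 L.c &&
    (chn (fun w => evw 9 LL (L.fl w)) (Nat.blt · 416) n L.lv [] && Nat.ble (p ^ n) (L.lv.map fun v => v.2.length).prod) &&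
    (List.range n).all fun j => Nat.ble (L.M.getD j []).length n && L.im (L.W.getD j []) (L.fl (pwd (L.M.getD j [])))

/-- the check of the bound -/
noncomputable def ok2 (p n k t : ℕ) : Bool :=
  Nat.blt t 23 && eqW (L.W.getD 0 []) [ix t + 7] &&
    (L.F.all fun x => Nat.blt x 416 && (List.range n).all fun j => Nat.beq (evw 9 LL (L.W.getD j []) x) x) &&
    (L.gs.all fun a => lt 7 a && eqW (a ++ [ix t + 7]) ([ix t + 7] ++ a)) &&
    decide (L.gs.Pairwise fun a b => L.mo n a b = true) && Nat.blt 0 L.gs.length &&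
    MO.L.frc (mv [ix t + 7]) fun s =>
      Nat.ble (((nf p n n).filter fun u => Nat.beq (mv (L.fl u)) s).length * (cl (ix t) + 1)) (2 * (p ^ n * k) * L.gs.length)

/-- the check of the counts -/
noncomputable def ok3 (p n k a b a' b' : ℕ) : Bool :=
  nrms L.e n L.R && Nat.beq L.R.length 2 &&
    ((List.range 2).all fun i => ((L.sq.getD i []).all fun s => L.im s.1 s.2) &&
      eqX (L.W.getD (n + i) []) ((L.sq.getD i []).flatMap fun s => s.1 ++ s.1) &&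
      eqX ((L.sq.getD i []).flatMap fun s => s.2 ++ s.2) (L.fl ((L.ws.getD i []).map (n + ·)))) &&
    (mapK (fun j => _root_.Cfsg.Agent.DZ3.Spor.Tr.run _root_.Cfsg.Agent.MO.S.G24.k0 k1 cs ss (L.fl (L.O.getD j [])) n1 fun s => s) (List.range L.O.length) fun S =>
      (List.range L.O.length).all fun j =>
        ((List.range L.O.length).all fun j' => !Nat.beq (S.getD j 0) (S.getD j' 0) || Nat.beq j j') &&
        (List.range 2).all fun i => Nat.blt ((L.σ.getD i []).getD j 0) L.O.length &&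
          run k0 k1 cs ss (L.W.getD (n + i) []) (S.getD j 0) fun s => Nat.beq s (S.getD ((L.σ.getD i []).getD j 0) 0)) &&
    (chkM p 2 L.R (idM 2) L.pG k a && chkM p 2 L.R L.M L.pG k b &&
      chkE p 2 L.O.length 2 L.R L.σ (idW 2) (idM 2) L.pX (2 * k) a' && chkE p 2 L.O.length 2 L.R L.σ L.ws L.M L.pX (2 * k) b')

theorem ev_fl : ∀ v, ev L.y v = Y (L.fl v)
  | [] => rfl
  | a :: v => by rw [ev_cons, ev_fl v, fl, fl, List.flatMap_cons, Y_append, y]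

theorem he (v w : List ℕ) (h : L.e v w = true) : ev L.y v = ev L.y w := by rw [ev_fl, ev_fl, eq_of_eqX h]

theorem hg (i : ℕ) : G24.φ (L.y i) = L.g i := rfl

variable {L}

theorem W_lt (h : L.W.all (lt 6) = true) (a : ℕ) : ∀ i ∈ L.W.getD a [], i < 6 := by
  rcases lt_or_ge a L.W.length with e | e
  · rw [List.getD_eq_getElem _ _ e]
    exact lt_spec (List.all_eq_true.1 h _ (List.getElem_mem e))
  · rw [List.getD_eq_default _ _ e]
    exact fun _ h => absurd h List.not_mem_nil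

theorem fl_lt (h : L.W.all (lt 6) = true) (v : List ℕ) : ∀ i ∈ L.fl v, i < 6 := fun i hi => by
  obtain ⟨a, -, ha⟩ := List.mem_flatMap.1 hi
  exact W_lt h a i ha

theorem β_val (h : lt 6 L.x = true) (a : N) :
    (L.β a : Perm (Fin 416)) = E (L.x ++ [6]) * a * (E (L.x ++ [6]))⁻¹ := by
  rw [β, MulAut.mul_apply, MulAut.conj_apply, coe_mul, coe_mul, coe_inv, φ_Y (lt_spec h), τ_val, E_append, E_six]
  group

theorem im_eq (h : lt 6 L.x = true) {u v : List ℕ} (e : L.im u v = true) : L.β (G24.φ (Y u)) = G24.φ (Y v) := by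
  rw [im, Bool.and_eq_true, Bool.and_eq_true] at e
  refine Subtype.ext ?_
  rw [β_val h, φ_Y (lt_spec e.1.1), φ_Y (lt_spec e.1.2), ← E_append, eq_of_eqW e.2, E_append v, mul_inv_cancel_right]

theorem im_sq (h : lt 6 L.x = true) {γ : MulAut X} (hγ : ∀ x, G24.φ (γ x) = L.β (G24.φ x)) :
    ∀ l : List (List ℕ × List ℕ), (∀ s ∈ l, L.im s.1 s.2 = true) →
      γ (Y (l.flatMap fun s => s.1 ++ s.1)) = Y (l.flatMap fun s => s.2 ++ s.2)
  | [], _ => map_one γ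
  | s :: l, e => by
    rw [List.flatMap_cons, List.flatMap_cons, Y_append, Y_append, Y_append, Y_append, map_mul, map_mul,
      im_sq h hγ l fun s hs => e s (List.mem_cons_of_mem _ hs), sq_eq ((hγ _).trans (im_eq h (e s List.mem_cons_self)))]

variable {p n : ℕ}

/-- what the first check gives -/
structure H1 (L : LD) (p n : ℕ) : Prop where
  w : L.W.all (lt 6) = true
  x : lt 6 L.x = true
  c : Pc.chk L.e p n 2 L.c = true
  ex : expC n 2 L.c = true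
  ge : p ^ n ≤ Nat.card (V L.g n 0)
  im : ∀ j < n, (L.M.getD j []).length ≤ n ∧ L.β (L.g j) = ev L.g (pwd (L.M.getD j []))

theorem ev_g (h : L.W.all (lt 6) = true) (v : List ℕ) : ((ev L.g v : N) : Perm (Fin 416)) = E (L.fl v) := by
  rw [← map_ev L.hg, ev_fl, φ_Y (fl_lt h v)]

theorem h1 (h : L.ok1 p n = true) : H1 L p n := by
  rw [ok1, Bool.and_eq_true, Bool.and_eq_true, Bool.and_eq_true, Bool.and_eq_true, Bool.and_eq_true] at h
  obtain ⟨⟨⟨⟨⟨c1, c2⟩, c3⟩, c4⟩, c5⟩, c6⟩ := h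
  refine ⟨c1, c2, c3, c4, card_ge (Ω := Fin 416) Fin.val_injective (fun c hc => ⟨⟨c, Nat.blt_eq.mp hc⟩, rfl⟩)
    (fun w _ x => ?_) c5, fun j hj => ?_⟩
  · rw [← E_tab _ fun i hi => (fl_lt c1 w i hi).trans (by decide), ← ev_g c1]
    rfl
  · have e := List.all_eq_true.1 c6 j (List.mem_range.2 hj)
    rw [Bool.and_eq_true, Nat.ble_eq] at e
    exact ⟨e.1, by rw [← map_ev L.hg, ev_fl, ← im_eq c2 e.2]; rfl⟩

theorem he' (v w : List ℕ) (h : L.e v w = true) : ev L.g v = ev L.g w := by rw [← map_ev L.hg, ← map_ev L.hg, L.he v w h]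

theorem H1.stab (h : H1 L p n) : ∀ x, L.β x ∈ V L.g n 0 ↔ x ∈ V L.g n 0 := stab_of_le fun _ hx =>
  V_le (H := (V L.g n 0).comap L.β.toMonoidHom) (fun j _ hj =>
    show L.β (L.g j) ∈ V L.g n 0 from (h.im j hj).2 ▸ pwd_mem (h.im j hj).1) hx

/-- **the order of the normaliser** -/
theorem bound {k t : ℕ} (h : H1 L p n) (h0 : 0 < n) (h' : L.ok2 p n k t = true) :
    Nat.card (normalizer (V L.g n 0 : Set N)) ≤ p ^ n * k := by
  simp only [ok2, MO.L.frc_eq, Bool.and_eq_true, List.all_eq_true, List.mem_range, Nat.ble_eq, Nat.blt_eq, Nat.beq_eq,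
    decide_eq_true_eq] at h'
  obtain ⟨⟨⟨⟨⟨⟨c1, c2⟩, c3⟩, c4⟩, c5⟩, c6⟩, c7⟩ := h'
  have e0 : ∀ i ∈ [ix t + 7], i < 31 := List.forall_mem_singleton.2 (Nat.add_lt_add_right (ix_lt c1) 7)
  have e1 : L.g 0 = r t := Subtype.ext ((φ_Y (W_lt h.w 0)).trans ((eq_of_eqW c2).trans (r_one t).symm))
  let K : Subgroup A := normalizer (((V L.g n 0).map ι : Subgroup A) : Set A)
  have e2 : (normalizer (V L.g n 0 : Set N)).map ι ≤ K := le_normalizer_map ι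
  let u : A := ⟨E (L.x ++ [6]), E_A fun i hi => (List.mem_append.1 hi).elim (fun e => (lt_spec h.x i e).trans (by decide))
    fun e => List.mem_singleton.1 e ▸ by decide⟩
  have e3 : u ∈ K := mem_normalizer_fintype (by
    rintro _ ⟨a, ha, rfl⟩
    exact ⟨_, (h.stab a).2 ha, Subtype.ext (β_val h.x a)⟩)
  have e4 : u ∉ (normalizer (V L.g n 0 : Set N)).map ι := by
    rintro ⟨a, -, ha⟩
    have e := N.mul_mem (N.inv_mem (E_mem (lt_spec h.x))) a.2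
    rw [show (a : Perm (Fin 416)) = E (L.x ++ [6]) from congrArg Subtype.val ha, E_append, inv_mul_cancel_left, E_six] at e
    exact T_notMem e
  have e5 : 2 * Nat.card (normalizer (V L.g n 0 : Set N)) ≤ Nat.card K := by
    rw [← card_map_of_injective ι_inj]
    obtain ⟨c, hc⟩ := card_dvd_of_le e2
    have e6 := not_le.1 fun e => e4 (eq_of_le_of_card_ge e2 e ▸ e3)
    rw [hc, mul_comm] at e6 ⊢
    exact Nat.mul_le_mul_left _ (show 1 < c from Nat.lt_of_mul_lt_mul_right (by rwa [one_mul]))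
  have e6 := card_norm (N := K) (z := ι (r t))
    (O := ((nf p n n).filter fun u => Nat.beq (mv (L.fl u)) (mv [ix t + 7])).map fun v => ι (ev L.g v)) (fun a ha => by
      obtain ⟨b, h1, h2⟩ := (mem_normalizer_iff.1 ha _).1 ⟨_, mem_V le_rfl h0, congrArg ι e1⟩
      obtain ⟨v, h3, rfl⟩ := nf_spec (pc_of_chk he' h.c) n le_rfl b (by rwa [Nat.sub_self])
      refine List.mem_map.2 ⟨v, List.mem_filter.2 ⟨h3, Nat.beq_eq.mpr ?_⟩, h2⟩
      rw [← mv_eq fun i hi => (fl_lt h.w v i hi).trans (by decide), ← mv_eq e0, ← ev_g h.w, ← r_one]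
      exact (congrArg (fun s : A => s.1.support.card) h2).trans Perm.card_support_conj)
    (gs := L.gs.pmap (fun a ha => ⟨E a, E_A (lt_spec ha)⟩) fun a ha => (c4 a ha).1) (fun a ha => by
      obtain ⟨w, hw, rfl⟩ := List.mem_pmap.1 ha
      have e := eq_of_eqW (c4 w hw).2
      rw [E_append, E_append, ← r_one] at e
      exact Subtype.ext e)
    ((List.pairwise_pmap _).2 (c5.imp fun {a b} e ha hb hm => by
      simp only [mo, List.any_eq_true, List.mem_range, Bool.not_eq_true', ← Bool.not_eq_true, Nat.beq_eq] at e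
      obtain ⟨x, h1, j, h2, h3⟩ := e
      have h4 : ∀ i ∈ a.reverse ++ b, i < 31 := fun i hi => ((List.mem_append.1 hi).elim
        (fun e => lt_spec ha i (List.mem_reverse.1 e)) (lt_spec hb i)).trans (by decide)
      have h5 : ∀ i, ∀ l ∈ L.W.getD i [], l < 31 := fun i l hl => (W_lt h.w i l hl).trans (by decide)
      obtain ⟨s, h6, h7⟩ := (mem_normalizer_iff.1 (inv_mem hm) _).1 ⟨_, mem_V (Nat.zero_le j) h2, rfl⟩
      have h8 : (s : Perm (Fin 416)) ⟨x, (c3 x h1).1⟩ = ⟨x, (c3 x h1).1⟩ :=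
        V_le (H := MulAction.stabilizer N (⟨x, (c3 x h1).1⟩ : Fin 416)) (fun i _ hi => Fin.ext
          ((congrArg (fun s : Perm (Fin 416) => (s ⟨x, (c3 x h1).1⟩ : ℕ)) (φ_Y (W_lt h.w i))).trans
            ((E_tab _ (h5 i) _).trans ((c3 x h1).2 i hi)))) h6
      rw [show (s : Perm (Fin 416)) = ((E a)⁻¹ * E b)⁻¹ * G24.φ (Y _) * ((E a)⁻¹ * E b)⁻¹⁻¹ from congrArg Subtype.val h7,
        inv_inv, mul_assoc, Perm.mul_apply, Perm.inv_eq_iff_eq, φ_Y (W_lt h.w j), ← E_rev (lt_spec ha), ← E_append,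
        ← E_append] at h8
      exact h3 ((E_tab _ (fun i hi => (List.mem_append.1 hi).elim (h5 j i) (h4 i)) ⟨x, (c3 x h1).1⟩).symm.trans
        ((congrArg Fin.val h8).trans (E_tab _ h4 _)))))
  rw [List.length_map, List.length_pmap] at e6
  exact Nat.le_of_mul_le_mul_left (Nat.le_of_mul_le_mul_right (((Nat.mul_le_mul_right _ e5).trans
    (e6.trans (Nat.mul_le_mul_left _ (cen_le c1)))).trans c7) c6) two_pos

omit L in
theorem mt_map {d : ℕ} {Q : Subgroup X} {q : ℕ → X} {f : X → X} {f' : N → N} {B : List (List ℕ)} (h : Mt d Q q f B)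
    (hf : ∀ x, G24.φ (f x) = f' (G24.φ x)) : Mt d (Q.map G24.φ) (G24.φ ∘ q) f' B := fun j hj => by
  rw [← map_commutator]
  refine ⟨_, h j hj, ?_⟩
  simp only [map_mul, map_inv, hf, mon, map_list_prod, List.map_map, Function.comp_def, map_pow]

/-- **the local numbers** -/
theorem loc {k o a b c d : ℕ} [hp : Fact p.Prime] (h : H1 L p n) (h0 : p ≠ 2) (h1 : 251596800 = p ^ n * o) (h2 : ¬ p ∣ o)
    (h3 : Nat.card (normalizer (V L.g n 0 : Set N)) ≤ p ^ n * k) (h' : L.ok3 p n k a b (a + c) (b + d) = true) :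
    ∃ Q : Sylow p X, (∀ l, Fl X l → kk p (normalizer ((Q : Subgroup X) : Set X)) (center X) l = c) ∧
      ∀ γ : MulAut X, (∀ x, G24.φ (γ x) = L.β (G24.φ x)) → (∀ x, γ x ∈ (Q : Subgroup X) ↔ x ∈ (Q : Subgroup X)) ∧
        ∀ l, Fl X l → fB p (normalizer ((Q : Subgroup X) : Set X)) l γ = d := by
  rw [ok3, Bool.and_eq_true, Bool.and_eq_true, Bool.and_eq_true, Bool.and_eq_true, mapK_eq] at h'
  obtain ⟨⟨⟨⟨c4, c5⟩, c7⟩, c8⟩, h'⟩ := h'
  simp only [Bool.and_eq_true, List.all_eq_true, List.mem_range, Nat.blt_eq, Nat.beq_eq, Bool.or_eq_true,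
    Bool.not_eq_true', ← Bool.not_eq_true] at h' c5 c7 c8
  obtain ⟨⟨⟨d1, d2⟩, d3⟩, d4⟩ := h'
  have hc := h.ge.trans (card_V L.hg n 0)
  have e1 := pc_of_chk L.he h.c
  have e2 := pc_of_chk he' h.c
  obtain ⟨Q, hQ, e3⟩ := exists_syl L.hg cv h0 e1 h.ge (card_N.trans h1) h2
  have e4 : (normalizer (V L.y n 0 : Set X)).map G24.φ = normalizer (V L.g n 0 : Set N) := by
    rw [← hQ, e3, map_comap_eq_self_of_surjective cv.surj]
  have e5 := e2.card_zero h.ge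
  have e9 : Mt 2 (V L.g n 0) L.g L.β L.M := fun j hj => by
    rw [e2.comm_eq, (h.im j (hj.trans_le e2.le)).2]
    exact pwd_mod (h.im j (hj.trans_le e2.le)).1 2
  have f1 := loc_of_chk L.he h.c h.ex hc
  have f2 := loc_of_chk he' h.c h.ex h.ge
  have f3 := mts_of_nrms he' h.c (RR := L.R) c4
  have f4 : ∀ i < 2, nrm L.e n [n + i] (L.R.getD i []) = true := fun i hi =>
    List.all_eq_true.1 c4 i (List.mem_range.2 (c5 ▸ hi))
  have f5 : ∀ i, ev L.y [n + i] = L.y (n + i) := fun i => by rw [ev_cons, ev_nil, mul_one]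
  have f6 : ∀ i < 2, L.y (n + i) ∈ normalizer (V L.y n 0 : Set X) := fun i hi => f5 i ▸ nrm_mem L.he (f4 i hi)
  have f7 : ∀ i < 2, Mt 2 (V L.y n 0) L.y (fun x => L.y (n + i) * x * (L.y (n + i))⁻¹) (L.R.getD i []) := fun i hi =>
    f5 i ▸ mt_of_nrm L.he h.c (f4 i hi)
  have f0 : ∀ j < L.O.length, ((List.range L.O.length).map fun j => _root_.Cfsg.Agent.DZ3.Spor.Tr.run _root_.Cfsg.Agent.MO.S.G24.k0 k1 cs ss (L.fl (L.O.getD j [])) n1 fun s => s).getD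
      j 0 = NN (Y (L.fl (L.O.getD j []))) := fun j hj => by
    rw [List.getD_eq_getElem _ _ (by simpa using hj), List.getElem_map, List.getElem_range, cs_eq.2.2.1, N1_eq]
    exact (run_NN _ 1 _).trans (by rw [mul_one])
  have f8 : ∀ j < L.O.length, ∀ j' < L.O.length, Y (L.fl (L.O.getD j [])) = Y (L.fl (L.O.getD j' [])) → j = j' :=
    fun j hj j' hj' e => ((c8 j hj).1 j' hj').resolve_left fun e' => e' (by rw [f0 j hj, f0 j' hj', e])
  have f9 : ∀ i < 2, ∀ j < L.O.length, L.y (n + i) • Y (L.fl (L.O.getD j [])) =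
      Y (L.fl (L.O.getD ((L.σ.getD i []).getD j 0) [])) := fun i hi j hj => by
    have e := ((c8 j hj).2 i hi).2
    rw [f0 j hj, f0 _ ((c8 j hj).2 i hi).1, run_NN] at e
    exact Subtype.ext (NN_inj (Nat.eq_of_beq_eq_true e))
  have g1 : Nat.card (normalizer (V L.y n 0 : Set X)) ≤ Nat.card (V L.y n 0) * (2 * k) := by
    have g1 := ((normalizer (V L.g n 0 : Set N)).comap G24.φ).card_mul_index
    rw [index_comap_of_surjective _ cv.surj, card_X, ← card_N, ← (normalizer (V L.g n 0 : Set N)).card_mul_index,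
      ← mul_assoc] at g1
    rw [e1.card_zero hc, mul_left_comm, ← hQ, e3, Nat.eq_of_mul_eq_mul_right (Nat.pos_of_ne_zero index_ne_zero_of_finite) g1]
    exact Nat.mul_le_mul_left _ h3
  have hr : (Nat.card (center X)).Prime := cv.card ▸ Nat.prime_two
  refine ⟨Q, hQ ▸ ⟨fun l hl => ?_, fun γ hγ => ?_⟩⟩
  · have h4 := k0_prime (p := p) G24.φ cv.ker hr (center_le_normalizer (V L.y n 0 : Set X)) hl
    rw [(k0_of_chkE f1 le_normalizer le_rfl g1 f6 f7 f8 f9 d3).1, e4, k0_norm f2 (e5.symm ▸ h3) f3 d1, cv.card,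
      Nat.add_one_sub_one, one_mul] at h4
    exact (Nat.add_left_cancel h4).symm
  have e6 : ∀ x ∈ V L.y n 0, x ^ p ^ n = 1 := fun x hx =>
    congrArg Subtype.val (e1.card_zero hc ▸ pow_card_eq_one' (x := (⟨x, hx⟩ : V L.y n 0)))
  have e7 : ∀ j < n, γ (L.y j) = ev L.y (pwd (L.M.getD j [])) := fun j hj =>
    odd_eq (by rw [hγ, map_ev L.hg, ← (h.im j hj).2, hg]) ((hp.out.odd_of_ne_two h0).pow (n := n))
      (by rw [← map_pow, e6 _ (mem_V (Nat.zero_le j) hj), map_one]) (e6 _ (pwd_mem (h.im j hj).1))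
  have e8 : ∀ x, γ x ∈ V L.y n 0 ↔ x ∈ V L.y n 0 := stab_of_le fun x hx =>
    V_le (H := (V L.y n 0).comap γ.toMonoidHom) (fun j _ hj =>
      show γ (L.y j) ∈ V L.y n 0 from e7 j hj ▸ pwd_mem (h.im j hj).1) hx
  refine ⟨e8, fun l hl => ?_⟩
  have h4 := fN_prime (p := p) G24.φ cv.ker hr (center_le_normalizer (V L.y n 0 : Set X)) hl hγ fun x => (stab_norm e8 x).2
  rw [fN_of_chkE f1 le_normalizer le_rfl g1 f6 f7 f8 f9 e8 (stab_norm e8) (fun j hj => by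
      rw [e1.comm_eq, e7 j (hj.trans_le e1.le)]
      exact pwd_mod (h.im j (hj.trans_le e1.le)).1 2) (fun i hi => ?_) d4, e4,
    fN_norm f2 (e5.symm ▸ h3) f3 h.stab e9 d2, cv.card, Nat.add_one_sub_one, one_mul] at h4
  · exact (Nat.add_left_cancel h4).symm
  · rw [y, eq_of_eqX (c7 i hi).1.2, im_sq h.x hγ _ (c7 i hi).1.1, eq_of_eqX (c7 i hi).2, ← ev_fl,
      show ev L.y _ = ev (fun i => L.y (n + i)) _ from congrArg List.prod List.map_map, inv_mul_cancel]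
    exact one_mem _

/-- **the two numbers for all covers** -/
theorem rows {k t o a b c d : ℕ} [Fact p.Prime] (h : L.ok1 p n = true) (h' : L.ok2 p n k t = true)
    (h'' : L.ok3 p n k a b (a + c) (b + d) = true) (hn : 0 < n) (h0 : p ≠ 2) (h2 : 251596800 = p ^ n * o) (h3 : ¬ p ∣ o) :
    LK p 2 N c ∧ LF p 2 N d := by
  obtain ⟨Q, e1, e2⟩ := loc (h1 h) h0 h2 h3 (bound (h1 h) hn h') h''
  refine ⟨Up.lk_of_iso hi fun _ => ⟨Q, e1⟩, lf_of_iso hi fun α _ hα => ?_⟩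
  obtain ⟨l, hl⟩ := exists_fl
  obtain ⟨s, hs⟩ := exists_n hl out_N hα
  obtain ⟨x, hx⟩ := cv.surj (G24.φ (Y L.x) * s⁻¹)
  refine ⟨Q, x, e2 _ fun y => ?_⟩
  rw [MulAut.mul_apply, MulAut.conj_apply, map_mul, map_mul, map_inv, hx, hs, β, MulAut.mul_apply, MulAut.conj_apply]
  group

end LD

/-- the data for `p = 3` -/
def L3 : LD where
  W := [[4, 2, 3, 2, 1, 0, 1, 5, 2, 1, 5, 2, 0, 1, 5, 2, 3, 4], [0, 5, 4, 3, 1, 0, 1, 2, 3, 4, 2, 1], [4, 1, 2, 3, 2,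
    1, 3, 0, 2, 1, 0, 1, 3, 2, 3, 1, 2, 0, 1, 0, 4], [4, 2, 3, 2, 1, 2, 0, 1, 4, 5, 0], [5, 1, 2, 0, 4, 5, 1, 2, 3, 2,
    1, 5, 3, 4]]
  c := ⟨[[], [], []], [[[], [2], []], [[], [], []], [[], [], []]], [([], [], []), ([], [], []), ([0], [1], [])]⟩
  lv := [(0, [[], [1], [0, 0, 1, 1], [0, 1, 1], [0, 0, 1], [0, 0], [0], [0, 1], [1, 1]]), (11, [[], [2, 2], [2]])]
  R := [[[2, 1, 2], [2, 2, 2], [0, 0, 2]], [[1, 1, 1], [1, 2, 1], [0, 0, 1]]]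
  x := [0, 1, 0, 2, 3, 2, 1, 0, 2, 3, 2, 1, 0, 4]
  O := [[], [3], [4], [3, 3], [4, 3], [3, 4], [4, 4], [3, 3, 3], [4, 3, 3], [3, 4, 3], [4, 4, 3], [3, 3, 4], [4, 3,
    4], [4, 4, 4], [3, 3, 3, 3], [3, 4, 3, 3], [4, 4, 3, 3], [3, 3, 4, 3], [4, 3, 4, 3], [4, 4, 4, 3], [4, 3, 3, 4], [4,
    4, 3, 4], [3, 3, 3, 3, 3], [4, 3, 4, 3, 3], [4, 4, 4, 3, 3], [4, 3, 3, 4, 3], [4, 4, 3, 4, 3], [4, 4, 3, 3, 4], [3,
    3, 3, 3, 3, 3], [4, 4, 3, 4, 3, 3], [4, 4, 3, 3, 4, 3], [3, 3, 3, 3, 3, 3, 3]]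
  σ := [[1, 3, 5, 7, 9, 11, 10, 14, 15, 17, 16, 4, 18, 21, 22, 2, 12, 8, 23, 26, 25, 27, 28, 20, 29, 6, 30, 19, 31,
    13, 24, 0], [2, 4, 6, 8, 10, 12, 13, 5, 16, 18, 19, 20, 21, 0, 9, 23, 24, 25, 26, 1, 27, 7, 15, 29, 3, 30, 14, 28,
    11, 22, 31, 17]]
  ws := [[0, 0, 0], [1, 1, 0, 0, 1]]
  M := [[1, 0, 1], [0, 2], [0, 0, 2]]
  sq := [[([3, 2, 3, 4], [0, 1, 0, 2, 3, 4, 1, 2, 3, 2, 4, 3]), ([1, 3, 0, 1, 4, 2, 3, 2, 0, 1, 2, 3, 4, 3, 2, 1, 5,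
    3, 1, 0, 1, 5, 1, 2, 3, 2, 1, 5, 1, 2, 3, 2, 1, 2, 0], [2, 0, 1, 0, 5, 1, 2, 3, 4, 2, 3, 2, 1, 2, 4, 3, 2, 1, 5, 1,
    3, 4, 2, 3, 2, 3, 2, 1, 4, 5, 1, 2, 3, 2, 1, 3, 0, 1])], [([2, 1], [4, 1, 2, 3, 2, 1, 0, 1, 2, 3, 1, 4]), ([5, 4, 1,
    2, 3, 2, 0, 1, 2, 0, 2, 3, 4, 2, 1, 5, 2], [2, 1, 0, 5, 1, 2, 0, 1, 0, 5])]]
  pG := [1, 1, 1, 0, 2, 1, 0, 2, 0, 0, 0, 2, 1, 1, 0, 0, 2, 0, 0, 0, 2, 1, 1, 0, 2, 0, 0, 2]
  pX := [1, 1, 1, 1, 1, 1, 1, 0, 0, 0, 0, 0, 2, 1, 2, 2, 0, 0, 0, 2, 2, 0, 0, 0, 0, 2, 1, 1, 2, 2, 0, 0, 0, 2, 2, 0,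
    0, 0, 2, 2, 0, 0, 0, 0, 2, 1, 1, 2, 2, 0, 0, 0, 2, 2, 0, 0, 0, 2, 2]
  F := [171, 300]
  gs := [[], [3, 4, 2, 3, 2, 1, 0, 1, 5, 2, 1, 5, 0, 4, 2, 3, 1, 4, 2, 3, 2], [3, 2, 0, 5, 3, 1, 0, 5, 1, 2, 3, 2, 1,
    5, 4, 3, 0, 1, 5, 2, 3, 0], [1, 2, 3, 4, 2, 3, 1, 2, 0, 1, 3, 4, 2, 3, 2, 4, 3, 2, 1, 5, 0, 4, 6], [1, 2, 5, 3, 4,
    1, 2, 3, 2, 5, 3, 1, 0, 2, 3, 2, 1, 5, 1, 2, 3, 2, 1, 4, 5, 6], [2, 3, 2, 0, 1, 0, 1, 2, 3, 0, 1, 5, 1, 2, 4, 3, 5,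
    1, 0, 1, 5, 2, 1, 2, 0, 3], [4, 0, 1, 2, 3, 2, 5, 1, 3, 4, 2, 3, 5, 2, 1, 5, 4, 3, 0, 1, 4, 5, 2, 3, 4, 3, 6], [1,
    2, 0, 1, 2, 3, 2, 1, 3, 4, 2, 3, 2, 1, 2, 1, 0, 1, 0, 5, 4, 3, 1, 0, 2, 1, 5, 1, 6], [3, 2, 4, 3, 2, 3, 4, 1, 2, 3,
    2, 4, 3, 1, 0, 2, 5, 1, 0, 1, 5, 2, 3, 4, 2, 3, 2, 3, 0, 1, 6], [4, 2, 3, 2, 4, 3, 4, 1, 2, 3, 2, 1, 0, 5, 1, 2, 3,
    2, 1, 5, 4, 3, 0, 2, 3, 4, 3, 2, 1, 0, 2, 6]]

/-- the data for `p = 5` -/
def L5 : LD where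
  W := [[4, 5, 2, 3, 4, 1, 2, 3, 0, 1, 0, 5], [2, 3, 0, 1, 2, 0, 5, 1, 2, 1, 5, 1, 3, 4, 2, 3, 2, 3, 2, 1, 5, 1, 2, 3,
    2, 1, 2], [0, 5, 3, 1, 0, 5], [5, 1, 2, 3, 2, 5, 4, 3, 1, 2, 0, 3, 1, 2, 4, 3, 2, 1, 5, 1]]
  c := ⟨[[], []], [[[], []], [[], []]], [([], [], []), ([], [], [])]⟩
  lv := [(1, [[], [1], [1, 1, 1], [1, 1, 1, 1], [1, 1]]), (0, [[], [0, 0, 0, 0], [0, 0, 0], [0, 0], [0]])]
  R := [[[4], [4, 1]], [[1, 2], [0, 4]]]
  x := [4, 1, 2, 3, 2, 1, 5, 0, 1, 5, 2, 0, 3, 4, 2, 3, 2, 5, 1, 0, 1, 5, 3, 2, 1, 0, 5, 2, 3]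
  O := [[], [2], [3], [2, 2], [3, 2], [2, 3], [2, 2, 2], [3, 2, 2], [2, 3, 2], [3, 2, 3], [3, 2, 2, 2], [2, 3, 2, 2],
    [3, 2, 3, 2], [2, 3, 2, 3], [2, 3, 2, 2, 2], [3, 2, 3, 2, 2], [2, 3, 2, 3, 2], [3, 2, 3, 2, 3], [3, 2, 3, 2, 2, 2],
    [2, 3, 2, 3, 2, 2], [3, 2, 3, 2, 3, 2], [2, 3, 2, 3, 2, 2, 2], [3, 2, 3, 2, 3, 2, 2], [3, 2, 3, 2, 3, 2, 2, 2]]
  σ := [[1, 3, 5, 6, 8, 7, 0, 11, 10, 13, 14, 2, 16, 15, 4, 19, 18, 20, 21, 9, 22, 12, 23, 17], [2, 4, 0, 7, 1, 9, 10,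
    3, 12, 5, 6, 15, 8, 17, 18, 11, 20, 13, 14, 22, 16, 23, 19, 21]]
  ws := [[1, 0, 1], [1, 0, 1, 0, 1, 0, 0]]
  M := [[2, 4], [2, 1]]
  sq := [[([1, 2, 4, 3, 2], [5, 1, 2, 3, 4, 3, 2, 1, 2, 3, 2, 0, 4, 3, 1, 2, 5, 1, 0, 5, 3, 2, 4, 3, 2, 5, 1, 0, 1, 5,
    3, 4, 2, 1, 5, 1, 2, 3]), ([1, 0, 1, 3, 0, 2, 1, 5, 1, 3, 4, 2, 3, 1, 5, 1, 2, 3, 2, 1, 4, 5, 1, 2, 3, 4, 2, 3, 5],
    [2, 1, 5, 4, 2, 3, 2, 1, 0, 5, 2, 3, 2, 1, 4, 5, 1, 2, 3, 2, 1, 0, 2, 3, 5])], [([2, 1, 0, 5], [1, 2, 3, 4, 3, 2, 1,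
    3, 2, 0, 4, 3, 1, 0, 2, 5, 1, 0, 5, 1, 4, 3, 5, 2, 3, 4, 1]), ([4, 2, 3, 2, 1, 0, 1, 2, 5, 1, 0, 1, 5, 2, 3, 4, 2,
    3, 0, 2, 5, 1, 0, 1, 5, 2, 1, 5, 3, 1, 5, 4], [4, 3, 1, 2, 3, 1, 2, 0, 5, 1, 3, 4, 2, 3, 5, 1, 2, 3, 5, 0, 2, 5, 1,
    0, 1, 5, 2, 3, 4, 2, 3, 2, 1, 2])]]
  pG := [1, 2, 1, 2, 1, 2, 0, 0, 0, 0, 0, 0, 2, 1, 2, 1, 2]
  pX := [1, 1, 1, 2, 1, 2, 1, 2, 0, 0, 0, 0, 0, 0, 2, 1, 2, 1, 2, 0, 0, 0, 0, 0, 0, 2, 1, 2, 1, 2, 0, 0, 0, 0, 0, 0,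
    2, 1, 2, 1, 2]
  F := [38]
  gs := [[], [5, 3, 0, 1, 5, 4, 2], [2, 3, 1, 2, 0, 3, 5, 1, 2], [2, 3, 1, 2, 0, 3, 4, 1, 3, 0], [4, 3, 0, 1, 2, 0, 3,
    5, 1, 4, 0], [5, 1, 0, 1, 2, 3, 4, 2, 3, 2, 5, 1, 3, 4, 2, 3, 0, 2, 5, 1, 0, 1, 5, 3, 4, 2, 0]]

private theorem evw_app (u v : List ℕ) (p : ℕ) : evw 9 LL (u ++ v) p = evw 9 LL u (evw 9 LL v p) := by
  induction u with
  | nil => rfl
  | cons a u ih => rw [List.cons_append, H123.Cls.evw_cons, H123.Cls.evw_cons, ih]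

/-- evaluation letter by letter (the kernel remembers the values of the letters) -/
private noncomputable def evT (L : LD) (u : List ℕ) : ℕ → ℕ :=
  List.rec (fun p => p) (fun a _ ih p => MO.L.frc (ih p) fun q => evw 9 LL (L.W.getD a []) q) u

private theorem evT_eq (L : LD) (u : List ℕ) (p : ℕ) : evw 9 LL (L.fl u) p = evT L u p := by
  induction u with
  | nil => rfl
  | cons a u ih =>
    show evw 9 LL (L.W.getD a [] ++ L.fl u) p = MO.L.frc (evT L u p) fun q => evw 9 LL (L.W.getD a []) q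
    rw [MO.L.frc_eq, evw_app, ih]

private theorem mv_fl (L : LD) (u : List ℕ) :
    mv (L.fl u) = ((List.range 416).map fun i => cond (Nat.beq (evT L u i) i) 0 1).sum := by
  simp only [mv, evT_eq]

theorem a3 : L3.ok1 3 3 = true := by decide +kernel

private noncomputable def _root_.Cfsg.Agent.LsF.fde9092_48 : {f // @Cfsg.Agent.TAB.Eng.allL = f} := ⟨_, by first | (delta Cfsg.Agent.TAB.Eng.allL; rewrite [Cfsg.Agent.LsF.cond_eq]; exact rfl) | exact rfl⟩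
private noncomputable def _root_.Cfsg.Agent.LsF.fde9092_49 : {f // @Cfsg.Agent.MO.S.G24.eqW = f} := ⟨_, by first | (delta Cfsg.Agent.MO.S.G24.eqW; rewrite [Cfsg.Agent.LsF.fde9092_48.2, Cfsg.Agent.LsF.lappend_pat, Cfsg.Agent.LsF.and_eq]; exact rfl) | exact rfl⟩
private noncomputable def _root_.Cfsg.Agent.LsF.fde9092_52 : {f // @Cfsg.Agent.MO.S.G24.ix = f} := ⟨_, by first | (delta Cfsg.Agent.MO.S.G24.ix; rewrite [Cfsg.Agent.LsF.nadd_pat, Cfsg.Agent.LsF.decLt_eq, Cfsg.Agent.LsF.ite_eq]; exact rfl) | exact rfl⟩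
private noncomputable def _root_.Cfsg.Agent.LsF.fde9092_39 : {f // @Cfsg.Agent.MO.S.G24L.lt = f} := ⟨_, by first | (delta Cfsg.Agent.MO.S.G24L.lt; rewrite [Cfsg.Agent.LsF.all_eq]; exact rfl) | exact rfl⟩
private noncomputable def _root_.Cfsg.Agent.LsF.fde9092_53 : {f // @Cfsg.Agent.MO.S.G24L.LD.mo = f} := ⟨_, by first | (delta Cfsg.Agent.MO.S.G24L.LD.mo; rewrite [Cfsg.Agent.LsF.lappend_pat, Cfsg.Agent.LsF.not_eq, Cfsg.Agent.LsF.any_eq, Cfsg.Agent.LsF.reverse_eq, Cfsg.Agent.LsF.range_eq, Cfsg.Agent.LsF.getD_eq]; exact rfl) | exact rfl⟩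
private noncomputable def _root_.Cfsg.Agent.LsF.fde9092_54 : {f // @Cfsg.Agent.MO.S.G24L.mv = f} := ⟨_, by first | (delta Cfsg.Agent.MO.S.G24L.mv; rewrite [Cfsg.Agent.LsF.cond_eq, Cfsg.Agent.LsF.map_eq, Cfsg.Agent.LsF.range_eq, Cfsg.Agent.LsF.sum_eq]; exact rfl) | exact rfl⟩
private noncomputable def _root_.Cfsg.Agent.LsF.fde9092_55 : {f // @Cfsg.Agent.MO.S.G24L.evT = f} := ⟨_, by first | (delta Cfsg.Agent.MO.S.G24L.evT; rewrite [Cfsg.Agent.LsF.getD_eq]; exact rfl) | exact rfl⟩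
private noncomputable def _root_.Cfsg.Agent.LsF.fde9092_56 : {f // @Cfsg.Agent.MO.S.F42.nf = f} := ⟨_, by first | (delta Cfsg.Agent.MO.S.F42.nf; rewrite [Cfsg.Agent.LsF.nadd_pat, Cfsg.Agent.LsF.nsub_pat, Cfsg.Agent.LsF.lappend_pat, Cfsg.Agent.LsF.map_eq, Cfsg.Agent.LsF.flatMap_eq, Cfsg.Agent.LsF.replicate_eq, Cfsg.Agent.LsF.range_eq]; exact rfl) | exact rfl⟩
private noncomputable def _root_.Cfsg.Agent.LsF.fde9092_57 : {f // @Cfsg.Agent.H137.G24.cl = f} := ⟨_, by first | (delta Cfsg.Agent.H137.G24.cl; rewrite [Cfsg.Agent.LsF.getD_eq]; exact rfl) | exact rfl⟩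
theorem b3 : L3.ok2 3 3 16 3 = true := by
  simp only [LD.ok2, mv_fl]
  ((try (rewrite [Cfsg.Agent.LsF.fde9092_49.2, Cfsg.Agent.LsF.fde9092_52.2, Cfsg.Agent.LsF.fde9092_39.2, Cfsg.Agent.LsF.fde9092_53.2, Cfsg.Agent.LsF.fde9092_54.2, Cfsg.Agent.LsF.fde9092_55.2, Cfsg.Agent.LsF.fde9092_56.2, Cfsg.Agent.LsF.fde9092_57.2, Cfsg.Agent.LsF.nadd_pat, Cfsg.Agent.LsF.nmul_pat, Cfsg.Agent.LsF.npow_pat, Cfsg.Agent.LsF.lappend_pat, Cfsg.Agent.LsF.and_eq, Cfsg.Agent.LsF.cond_eq, Cfsg.Agent.LsF.all_eq, Cfsg.Agent.LsF.map_eq, Cfsg.Agent.LsF.filter_eq, Cfsg.Agent.LsF.range_eq, Cfsg.Agent.LsF.sum_eq, Cfsg.Agent.LsF.getD_eq, Cfsg.Agent.LsF.dBoolEq_eq, Cfsg.Agent.LsF.dPairwise_eq, Cfsg.Agent.LsF.length_eq, Cfsg.Agent.LsF.decide_eq])); decide +kernel)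

theorem c3 : L3.ok3 3 3 16 9 9 18 12 = true := by decide +kernel

theorem a5 : L5.ok1 5 2 = true := by decide +kernel

theorem b5 : L5.ok2 5 2 12 9 = true := by
  simp only [LD.ok2, mv_fl]
  ((try (rewrite [Cfsg.Agent.LsF.fde9092_49.2, Cfsg.Agent.LsF.fde9092_52.2, Cfsg.Agent.LsF.fde9092_39.2, Cfsg.Agent.LsF.fde9092_53.2, Cfsg.Agent.LsF.fde9092_54.2, Cfsg.Agent.LsF.fde9092_55.2, Cfsg.Agent.LsF.fde9092_56.2, Cfsg.Agent.LsF.fde9092_57.2, Cfsg.Agent.LsF.nadd_pat, Cfsg.Agent.LsF.nmul_pat, Cfsg.Agent.LsF.npow_pat, Cfsg.Agent.LsF.lappend_pat, Cfsg.Agent.LsF.and_eq, Cfsg.Agent.LsF.cond_eq, Cfsg.Agent.LsF.all_eq, Cfsg.Agent.LsF.map_eq, Cfsg.Agent.LsF.filter_eq, Cfsg.Agent.LsF.range_eq, Cfsg.Agent.LsF.sum_eq, Cfsg.Agent.LsF.getD_eq, Cfsg.Agent.LsF.dBoolEq_eq, Cfsg.Agent.LsF.dPairwise_eq, Cfsg.Agent.LsF.length_eq, Cfsg.Agent.LsF.decide_eq])); decide +kernel)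

theorem c5 : L5.ok3 5 2 12 14 6 28 12 = true := by decide +kernel

theorem rows3 : LK 3 2 N 9 ∧ LF 3 2 N 3 :=
  have := Fact.mk Nat.prime_three
  LD.rows (o := 9318400) a3 b3 c3 (by decide) (by decide) rfl (by norm_num)

theorem rows5 : LK 5 2 N 14 ∧ LF 5 2 N 6 :=
  have := Fact.mk Nat.prime_five
  LD.rows (o := 10063872) a5 b5 c5 (by decide) (by decide) rfl (by norm_num)

end Cfsg.Agent.MO.S.G24L

namespace Cfsg.Agent.MO.X

open Cfsg.Agent.MO.S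

theorem g24_2_3 (F : Type) [Field F] [Fintype F] (hF : Fintype.card F = 4) : SmC 3 2 (Lie.chevG2.group F) :=
  G24.smC_of (G24.smC_3 G24L.rows3.1 G24L.rows3.2) F hF

theorem g24_2_5 (F : Type) [Field F] [Fintype F] (hF : Fintype.card F = 4) : SmC 5 2 (Lie.chevG2.group F) :=
  G24.smC_of (G24.smC_5 G24L.rows5.1 G24L.rows5.2) F hF

end Cfsg.Agent.MO.X
end

private theorem dce_fd59432cd592 : _root_.True := by
  try have : _root_.True := by simp only [_root_.Cfsg.Agent.MO.S.G24L.LD.ok2.eq_1]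
  try have : _root_.True := by simp only [_root_.Cfsg.Agent.MO.S.G24L.mv.eq_1]
  try have : _root_.True := by simp only [_root_.Cfsg.Agent.MO.S.S62.a7.eq_1]
  try have : _root_.True := by simp only [_root_.Cfsg.Agent.MO.S.G24L.LD.β.eq_1]
  try have : _root_.True := by simp only [_root_.Cfsg.Agent.MO.S.G24L.LD.ok1.eq_1]
  try have : _root_.True := by simp only [_root_.Cfsg.Agent.MO.S.G24L.LD.ok3.eq_1]
  try have : _root_.True := by simp only [_root_.Cfsg.Agent.MO.S.G24L.LD.mo.eq_1]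
  try have : _root_.True := by simp only [_root_.Cfsg.Agent.MO.S.G24L.LD.y.eq_1]
  try have : _root_.True := by simp only [_root_.Cfsg.Agent.MO.S.G24L.LD.fl.eq_1]
  try have : _root_.True := by simp only [_root_.Cfsg.Agent.MO.S.G24L.LD.im.eq_1]
  exact _root_.True.intro
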